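import Cfsg.Agent.H10.Fi22T.F8.RChk0
import Cfsg.Agent.H10.Fi22T.F8.RChk1

set_option autoImplicit false
set_option linter.all false

namespace Cfsg.Agent.H10.Fi22T

open Cfsg.Agent.H35 Cfsg.Spor

theorem f8_rall : ∀ p, p < 2801 → f8_rf p = true := by
  apply allR_blocks f8_rf 2801 10 3 _ (by decide)
  intro k hk
  interval_cases k
  · exact f8_rchk_0
  · exact f8_rchk_1
  · exact f8_rchk_2

theorem f8_circ_ok : circChk (fullW f8_rws f8_prels) f8_circT 0 f8_ccert = true := by decide +kernel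
theorem f8_hc_ok : allR (fun c => hcChk f8_rsw f8_hc1T f8_hc2T c) 7 3 0 = true := by decide +kernel
theorem f8_h0 : RData.aord (f8_rd.ent 0 1) = 0 := by decide +kernel

end Cfsg.Agent.H10.Fi22T
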